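import Groth.Agent.Lib.GrLC.ExtLoc
import Mathlib.Algebra.Homology.DerivedCategory.Ext.Map

/-!
# The localisation functor computes localised `Ext`
-/

set_option autoImplicit false
set_option linter.style.haveILetI false
universe u

open CategoryTheory Abelian GrothLib.GrLC.ExtLoc

noncomputable section

namespace GrothLib.ExtLocMap1

variable {R : Type u} [CommRing R] [IsNoetherianRing R] (S : Submonoid R)


/-- The map on `Ext` induced by localisation. -/
def locExt (M N : ModuleCat.{u} R) (i : ℕ) :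
    Ext M N i →+ Ext ((ModuleCat.localizedModuleFunctor.{u} S).obj M) ((ModuleCat.localizedModuleFunctor.{u} S).obj N) i :=
  (ModuleCat.localizedModuleFunctor.{u} S).mapExtAddHom M N i

theorem locExt_smul (M N : ModuleCat.{u} R) (i : ℕ) (r : R) (e : Ext M N i) :
    locExt S M N i (r • e) = algebraMap R (Localization S) r • locExt S M N i e := by
  have h1 : r • e = (Ext.mk₀ (r • 𝟙 M)).comp e (zero_add i) := by
    rw [Ext.mk₀_smul, Ext.smul_comp, Ext.mk₀_id_comp]
  show Ext.mapExactFunctor (ModuleCat.localizedModuleFunctor.{u} S) (r • e) = _ • Ext.mapExactFunctor (ModuleCat.localizedModuleFunctor.{u} S) e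
  rw [h1, Ext.mapExactFunctor_comp, Ext.mapExactFunctor_mk₀]
  have h2 : (ModuleCat.localizedModuleFunctor.{u} S).map (r • 𝟙 M) = algebraMap R (Localization S) r • 𝟙 ((ModuleCat.localizedModuleFunctor.{u} S).obj M) := by
    rw [← (ModuleCat.localizedModuleFunctor.{u} S).map_id]
    exact map_smul_hom (Y := M) (𝟙 M) r
  rw [h2, Ext.mk₀_smul, Ext.smul_comp, Ext.mk₀_id_comp]

theorem main (N : ModuleCat.{u} R) : ∀ (i : ℕ) (M : ModuleCat.{u} R) [Module.Finite R M],
    (∀ y : Ext ((ModuleCat.localizedModuleFunctor.{u} S).obj M) ((ModuleCat.localizedModuleFunctor.{u} S).obj N) i, ∃ (e : Ext M N i) (s : S),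
      algebraMap R (Localization S) (s : R) • y = locExt S M N i e) ∧
    (∀ e : Ext M N i, locExt S M N i e = 0 → ∃ s : S, (s : R) • e = 0) := by
  intro i
  induction i with
  | zero =>
    intro M _
    constructor
    · intro y
      obtain ⟨φ, rfl⟩ := (Ext.mk₀_bijective _ _).2 y
      obtain ⟨ψ, σ, hσ⟩ := exists_lift (S := S) (Y := N) φ
      refine ⟨Ext.mk₀ ψ, σ, ?_⟩
      show _ = Ext.mapExactFunctor (ModuleCat.localizedModuleFunctor.{u} S) (Ext.mk₀ ψ)
      rw [Ext.mapExactFunctor_mk₀, ← Ext.mk₀_smul]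
      exact congrArg Ext.mk₀ hσ.symm
    · intro e he
      obtain ⟨ψ, rfl⟩ := (Ext.mk₀_bijective M N).2 e
      change Ext.mapExactFunctor (ModuleCat.localizedModuleFunctor.{u} S) (Ext.mk₀ ψ) = 0 at he
      rw [Ext.mapExactFunctor_mk₀] at he
      obtain ⟨σ, hσ⟩ := exists_smul_eq_zero (S := S) (Y := N) ψ ((Ext.mk₀_bijective _ _).1 (he.trans (Ext.mk₀_zero _ _).symm))
      exact ⟨σ, by rw [← Ext.mk₀_smul, hσ, Ext.mk₀_zero]⟩
  | succ i ih =>
    intro M _
    obtain ⟨r, E, hE, hE2, hf1, hf2, rfl, hproj⟩ := exists_pres (R := R) M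
    haveI := hf1; haveI := hf2; haveI := hproj
    haveI : Module.Projective R E.X₂ := by rw [hE2]; infer_instance
    have hT : (E.map (ModuleCat.localizedModuleFunctor.{u} S)).ShortExact := hE.map_of_exact (ModuleCat.localizedModuleFunctor.{u} S)
    haveI : Projective (E.X₂.localizedModule S) := projective_loc_pi
    haveI : Projective (E.map (ModuleCat.localizedModuleFunctor.{u} S)).X₂ := ‹Projective (E.X₂.localizedModule S)›
    let D := GrothLib.CanonMod.extDelta hE N i (i + 1) (by omega)
    let D' := GrothLib.CanonMod.extDelta hT ((ModuleCat.localizedModuleFunctor.{u} S).obj N) i (i + 1) (by omega)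
    have hD : Function.Surjective D := fun x =>
      Ext.contravariant_sequence_exact₃ hE N x
        (Subsingleton.elim (h := Ext.subsingleton_of_projective E.X₂ N i) _ _) (by omega)
    have hD' : Function.Surjective D' := fun x =>
      Ext.contravariant_sequence_exact₃ hT ((ModuleCat.localizedModuleFunctor.{u} S).obj N) x
        (Subsingleton.elim (h := Ext.subsingleton_of_projective (E.map (ModuleCat.localizedModuleFunctor.{u} S)).X₂ ((ModuleCat.localizedModuleFunctor.{u} S).obj N) i) _ _) (by omega)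
    have hnat : ∀ a, locExt S E.X₃ N (i + 1) (D a) = D' (locExt S E.X₁ N i a) := fun a => by
      show Ext.mapExactFunctor (ModuleCat.localizedModuleFunctor.{u} S) (hE.extClass.comp a (show 1 + i = i + 1 by omega)) = _
      rw [Ext.mapExactFunctor_comp, Ext.mapExactFunctor_extClass]
      rfl
    constructor
    · intro y
      obtain ⟨b, rfl⟩ := hD' y
      obtain ⟨a, σ, hσ⟩ := (ih E.X₁).1 b
      refine ⟨D a, σ, ?_⟩
      rw [hnat, ← hσ]
      exact (map_smul D' _ b).symm
    · intro e he
      obtain ⟨a, rfl⟩ := hD e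
      rw [hnat] at he
      obtain ⟨y, hy⟩ := Ext.contravariant_sequence_exact₁ hT ((ModuleCat.localizedModuleFunctor.{u} S).obj N) (locExt S E.X₁ N i a) (by omega) he
      obtain ⟨c, τ, hτ⟩ := (ih E.X₂).1 y
      have h0 : locExt S E.X₁ N i ((τ : R) • a - (Ext.mk₀ E.f).comp c (zero_add i)) = 0 := by
        have hmap : locExt S E.X₁ N i ((Ext.mk₀ E.f).comp c (zero_add i)) =
            (Ext.mk₀ ((ModuleCat.localizedModuleFunctor.{u} S).map E.f)).comp (locExt S E.X₂ N i c) (zero_add i) := by
          show Ext.mapExactFunctor (ModuleCat.localizedModuleFunctor.{u} S) _ = _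
          rw [Ext.mapExactFunctor_comp, Ext.mapExactFunctor_mk₀]
          rfl
        rw [map_sub, locExt_smul, sub_eq_zero, hmap, ← hτ]
        refine Eq.trans ?_ (Ext.comp_smul _ _ _ _).symm
        exact congrArg (algebraMap R (Localization S) (τ : R) • ·) hy.symm
      obtain ⟨σ, hσ⟩ := (ih E.X₁).2 _ h0
      refine ⟨σ * τ, ?_⟩
      rw [smul_sub, sub_eq_zero, smul_smul] at hσ
      rw [← map_smul, Submonoid.coe_mul, hσ, map_smul]
      show (σ : R) • hE.extClass.comp ((Ext.mk₀ E.f).comp c (zero_add i)) (show 1 + i = i + 1 by omega) = 0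
      rw [hE.extClass_comp_assoc _, smul_zero]

theorem result' (M N : ModuleCat.{u} R) [Module.Finite R M] (i : ℕ) :
    (∀ y : Ext ((ModuleCat.localizedModuleFunctor.{u} S).obj M) ((ModuleCat.localizedModuleFunctor.{u} S).obj N) i,
        ∃ (e : Ext M N i) (s : S),
          algebraMap R (Localization S) (s : R) • y = (ModuleCat.localizedModuleFunctor.{u} S).mapExtAddHom M N i e) ∧
      (∀ e : Ext M N i, (ModuleCat.localizedModuleFunctor.{u} S).mapExtAddHom M N i e = 0 ↔ ∃ s : S, (s : R) • e = 0) := by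
  refine ⟨(main S N i M).1, fun e => ⟨(main S N i M).2 e, fun ⟨s, hs⟩ => ?_⟩⟩
  have h := locExt_smul S M N i (s : R) e
  rw [hs, map_zero] at h
  exact (IsUnit.smul_eq_zero (IsLocalization.map_units (Localization S) s)).1 h.symm

end GrothLib.ExtLocMap1
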